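import Cfsg.Agent.H766.PQ.A01_m3
import Cfsg.Agent.CharactersDeep.MackeyLinear
import Mathlib.RingTheory.RootsOfUnity.Complex
import Cfsg.Agent.H734.RB.Cyc
import Cfsg.Agent.H990.PQ.Core
import Cfsg.Agent.Blocks.Central
import Cfsg.Agent.H315.EightRee
import Cfsg.Agent.FastGrp
import Cfsg.Agent.Prune
set_option linter.all false

section
prune_inst 0x7f00000000000000000000000000000000000000000000000000000000000000000000000000000000000000000000000000000000000000000000000000000000000000000000000000000000000000003fffffffffffffffffffffffffffbeffbdffffffff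

-- part: H632/PQ/Abs
section
set_option linter.all false
open scoped Cfsg.Agent.FastGrp

/-!
# S4612, linear characters: the abstract test (helper632)

* `exists_theta` : a linear character of a finite cyclic group, of `p`-power order, trivial exactly at the elements of
  order prime to `p`;
* `dvd_orderOf_mul_iff` : translation by a `p`-element central modulo an `r`-group preserves the `l`-singular elements;
* `not_same` : `H ≤ G`, `lam : H →* C`, `C` finite cyclic; `not_same'` : without the hypothesis that `z` is a `p`-element.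
-/

set_option autoImplicit false

open Cfsg

namespace Cfsg.Agent.H632.PQ

open Cfsg.Agent.H317.PQ

universe u v

/-- a linear character of `p`-power order, trivial exactly at the elements of order prime to `p` -/
theorem exists_theta {p : ℕ} (hp : p.Prime) (C : Type*) [CommGroup C] [Finite C] [IsCyclic C] :
    ∃ θ : C →* ℂˣ, (∀ c, ∃ k : ℕ, θ c ^ p ^ k = 1) ∧ ∀ c, θ c ≠ 1 ↔ p ∣ orderOf c := by
  have : Fintype C := Fintype.ofFinite C
  set n := Nat.card C with hn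
  have hn0 : n ≠ 0 := Nat.card_pos.ne'
  have : NeZero n := ⟨hn0⟩
  have hcard : Nat.card (rootsOfUnity n ℂ) = Nat.card C := Complex.card_rootsOfUnity n
  let e : C ≃* rootsOfUnity n ℂ := mulEquivOfCyclicCardEq hcard.symm
  obtain ⟨k, m, hm, hkm⟩ := Nat.exists_eq_pow_mul_and_not_dvd hn0 p hp.ne_one
  refine ⟨((rootsOfUnity n ℂ).subtype.comp e.toMonoidHom).comp (powMonoidHom m), fun c => ⟨k, ?_⟩, fun c => ?_⟩
  · rw [← map_pow]
    have : c ^ n = 1 := pow_card_eq_one'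
    have h1 : powMonoidHom m (c ^ p ^ k) = 1 := by
      rw [powMonoidHom_apply, ← pow_mul, ← hkm, this]
    rw [MonoidHom.comp_apply, h1, map_one]
  · rw [MonoidHom.comp_apply, powMonoidHom_apply]
    have h1 : ((rootsOfUnity n ℂ).subtype.comp e.toMonoidHom) (c ^ m) = 1 ↔ c ^ m = 1 := by
      rw [MonoidHom.comp_apply]
      constructor
      · intro h
        have h2 : e (c ^ m) = 1 := Subtype.ext h
        exact (map_eq_one_iff e e.injective).1 h2
      · intro h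
        rw [h, map_one, map_one]
    rw [Ne, h1, ← orderOf_dvd_iff_pow_eq_one]
    constructor
    · intro h
      by_contra hpc
      apply h
      have h2 : orderOf c ∣ p ^ k * m := by
        rw [← hkm, hn]
        exact orderOf_dvd_natCard c
      exact (((Nat.Prime.coprime_iff_not_dvd hp).2 hpc).symm.pow_right k).dvd_of_dvd_mul_left h2
    · intro h h2
      exact hm (h.trans h2)

/-- translation by a commuting `p`-element -/
theorem dvd_orderOf_mul_of_commute {G : Type*} [Group G] [Finite G] {p l k : ℕ} (hp : p.Prime) (hl : l.Prime) (hpl : p ≠ l) {x z : G}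
    (hxz : Commute x z) (hz : z ^ p ^ k = 1) (h : l ∣ orderOf x) : l ∣ orderOf (x * z) := by
  by_contra h1
  have h2 : x ^ (orderOf (x * z) * p ^ k) = 1 := by
    have h3 : (x * z) ^ (orderOf (x * z) * p ^ k) = 1 := by
      rw [pow_mul, pow_orderOf_eq_one, one_pow]
    rw [hxz.mul_pow, mul_comm (orderOf _) (p ^ k), pow_mul z, hz, one_pow, mul_one, mul_comm (p ^ k)] at h3
    exact h3
  have h3 : l ∣ orderOf (x * z) * p ^ k := h.trans (orderOf_dvd_of_pow_eq_one h2)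
  rcases hl.dvd_mul.1 h3 with h4 | h4
  · exact h1 h4
  · exact hpl ((Nat.prime_dvd_prime_iff_eq hl hp).1 (hl.dvd_of_dvd_pow h4)).symm

/-- the order modulo an `r`-group -/
theorem dvd_orderOf_iff_mk {G : Type*} [Group G] [Finite G] {r l : ℕ} [hr : Fact r.Prime] (hl : l.Prime) (hrl : r ≠ l)
    (N : Subgroup G) [N.Normal] (hN : IsPGroup r ↥N) (x : G) : l ∣ orderOf (QuotientGroup.mk x : G ⧸ N) ↔ l ∣ orderOf x := by
  constructor
  · intro h
    exact h.trans (orderOf_map_dvd (QuotientGroup.mk' N) x)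
  · intro h
    have h1 : x ^ orderOf (QuotientGroup.mk x : G ⧸ N) ∈ N := by
      rw [← QuotientGroup.eq_one_iff, QuotientGroup.mk_pow, pow_orderOf_eq_one]
    obtain ⟨k, hk⟩ := hN ⟨_, h1⟩
    have h2 : x ^ (orderOf (QuotientGroup.mk x : G ⧸ N) * r ^ k) = 1 := by
      rw [pow_mul]
      exact congrArg Subtype.val hk
    rcases hl.dvd_mul.1 (h.trans (orderOf_dvd_of_pow_eq_one h2)) with h4 | h4
    · exact h4
    · exact absurd ((Nat.prime_dvd_prime_iff_eq hl hr.out).1 (hl.dvd_of_dvd_pow h4)).symm hrl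

/-- translation by a `p`-element central modulo an `r`-group -/
theorem dvd_orderOf_mul_iff {G : Type*} [Group G] [Finite G] {p r l : ℕ} [hr : Fact r.Prime] (hp : p.Prime) (hl : l.Prime)
    (hpl : p ≠ l) (hrl : r ≠ l) (N : Subgroup G) [N.Normal] (hN : IsPGroup r ↥N) (z : G) (hz : ∃ k : ℕ, z ^ p ^ k = 1)
    (hc : ∀ h : G, h * z * h⁻¹ * z⁻¹ ∈ N) (x : G) : l ∣ orderOf (x * z) ↔ l ∣ orderOf x := by
  obtain ⟨k, hk⟩ := hz
  rw [← dvd_orderOf_iff_mk hl hrl N hN x, ← dvd_orderOf_iff_mk hl hrl N hN (x * z), QuotientGroup.mk_mul]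
  have h1 : Commute (QuotientGroup.mk x : G ⧸ N) (QuotientGroup.mk z) := by
    show (QuotientGroup.mk x : G ⧸ N) * QuotientGroup.mk z = QuotientGroup.mk z * QuotientGroup.mk x
    rw [← mul_inv_eq_one, mul_inv_rev, ← QuotientGroup.mk_mul, ← QuotientGroup.mk_inv, ← QuotientGroup.mk_inv,
      ← QuotientGroup.mk_mul, ← QuotientGroup.mk_mul, QuotientGroup.eq_one_iff, ← mul_assoc]
    exact hc x
  have h2 : (QuotientGroup.mk z : G ⧸ N) ^ p ^ k = 1 := by
    rw [← QuotientGroup.mk_pow, hk, QuotientGroup.mk_one]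
  have h3 : (QuotientGroup.mk z : G ⧸ N)⁻¹ ^ p ^ k = 1 := by rw [inv_pow, h2, inv_one]
  constructor
  · intro h
    have h4 : Commute ((QuotientGroup.mk x : G ⧸ N) * QuotientGroup.mk z) (QuotientGroup.mk z)⁻¹ :=
      (h1.mul_left (Commute.refl _)).inv_right
    have h5 := dvd_orderOf_mul_of_commute hp hl hpl h4 h3 h
    rwa [mul_inv_cancel_right] at h5
  · exact dvd_orderOf_mul_of_commute hp hl hpl h1 h2

/-- **The test**: a linear character of `H ≤ G` of `p`-power order inducing an irreducible character of `G`, and a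
`p`-element of `H`, not in its kernel, central modulo a normal `r`-subgroup of `H`. -/
theorem not_same {G : Type u} [Group G] [Finite G] {p l r : ℕ} [hr : Fact r.Prime] (hp : p.Prime) (hl : l.Prime)
    (hpl : p ≠ l) (hrl : r ≠ l) (H : Subgroup G) {C : Type*} [CommGroup C] [Finite C] [IsCyclic C] (lam : ↥H →* C)
    (hm : ∀ x : G, x ∉ H → ∃ (t : ↥H) (hx : x⁻¹ * t * x ∈ H), p ∣ orderOf (lam t / lam ⟨x⁻¹ * t * x, hx⟩))
    (N : Subgroup ↥H) [N.Normal] (hN : IsPGroup r ↥N) (z : ↥H) (hz : ∃ k : ℕ, z ^ p ^ k = 1)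
    (hc : ∀ h : ↥H, h * z * h⁻¹ * z⁻¹ ∈ N) (hzl : p ∣ orderOf (lam z)) : ¬ Same p l G := by
  classical
  have : Fintype G := Fintype.ofFinite G
  obtain ⟨θ, hθ1, hθ2⟩ := exists_theta hp C
  have hirr := Cfsg.Agent.CharactersDeep.MackeyLinear.isIrrCharacter_indFun H (θ.comp lam) (fun x hx => by
    obtain ⟨t, hxt, hd⟩ := hm x hx
    refine ⟨t, hxt, fun he => ?_⟩
    rw [MonoidHom.comp_apply, MonoidHom.comp_apply] at he
    have h1 := (hθ2 _).2 hd
    apply h1
    rw [map_div, he, div_self'])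
  refine H809.PQ.linear_test hp hl H (θ.comp lam) (fun h => hθ1 _) ⟨_, hirr⟩ (fun g => ?_) z ((hθ2 _).2 hzl)
    (dvd_orderOf_mul_iff hp hl hpl hrl N hN z hz hc)
  show indFun H _ g = _
  rw [indFun]
  congr 1
  rw [finsum_eq_sum_of_fintype, ← Finset.sum_filter_add_sum_filter_not Finset.univ (fun x : G => x⁻¹ * g * x ∈ H)]
  have h0 : ∑ x : G with ¬ x⁻¹ * g * x ∈ H, extendByZero H (fun t => (((θ.comp lam) t : ℂˣ) : ℂ)) (x⁻¹ * g * x) = 0 := by
    refine Finset.sum_eq_zero fun x hx => ?_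
    simp only [Finset.mem_filter, Finset.mem_univ, true_and] at hx
    exact Cfsg.Agent.OddOrderCharacters.Clifford.ext_apply_not_mem H _ _ hx
  rw [h0, add_zero]
  rw [Finset.sum_subtype (Finset.univ.filter fun x : G => x⁻¹ * g * x ∈ H) (p := fun x : G => x⁻¹ * g * x ∈ H)
    (fun x => by simp) (fun x => extendByZero H (fun t => (((θ.comp lam) t : ℂˣ) : ℂ)) (x⁻¹ * g * x))]
  refine Finset.sum_congr rfl fun x _ => ?_
  exact Cfsg.Agent.OddOrderCharacters.Clifford.ext_apply_mem H _ _ x.2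

theorem dvd_orderOf_pow {C : Type*} [Monoid C] {p m : ℕ} (hp : p.Prime) {x : C} (h : p ∣ orderOf x) (hm : ¬ p ∣ m) :
    p ∣ orderOf (x ^ m) := by
  by_contra h1
  have h2 : x ^ (m * orderOf (x ^ m)) = 1 := by rw [pow_mul, pow_orderOf_eq_one]
  rcases hp.dvd_mul.1 (h.trans (orderOf_dvd_of_pow_eq_one h2)) with h3 | h3
  · exact hm h3
  · exact h1 h3

/-- the test, `z` need not be a `p`-element -/
theorem not_same' {G : Type u} [Group G] [Finite G] {p l r : ℕ} [hr : Fact r.Prime] (hp : p.Prime) (hl : l.Prime)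
    (hpl : p ≠ l) (hrl : r ≠ l) (H : Subgroup G) {C : Type*} [CommGroup C] [Finite C] [IsCyclic C] (lam : ↥H →* C)
    (hm : ∀ x : G, x ∉ H → ∃ (t : ↥H) (hx : x⁻¹ * t * x ∈ H), p ∣ orderOf (lam t / lam ⟨x⁻¹ * t * x, hx⟩))
    (N : Subgroup ↥H) [N.Normal] (hN : IsPGroup r ↥N) (z : ↥H)
    (hc : ∀ h : ↥H, h * z * h⁻¹ * z⁻¹ ∈ N) (hzl : p ∣ orderOf (lam z)) : ¬ Same p l G := by
  obtain ⟨k, m, hm', hkm⟩ := Nat.exists_eq_pow_mul_and_not_dvd (orderOf_pos z).ne' p hp.ne_one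
  refine not_same hp hl hpl hrl H lam hm N hN (z ^ m) ⟨k, ?_⟩ (fun h => ?_) ?_
  · rw [← pow_mul, mul_comm, ← hkm, pow_orderOf_eq_one]
  · have h1 : ∀ x : ↥H, (QuotientGroup.mk h : ↥H ⧸ N) * QuotientGroup.mk z = QuotientGroup.mk z * QuotientGroup.mk h := by
      intro _
      rw [← mul_inv_eq_one, mul_inv_rev, ← QuotientGroup.mk_mul, ← QuotientGroup.mk_inv, ← QuotientGroup.mk_inv,
        ← QuotientGroup.mk_mul, ← QuotientGroup.mk_mul, QuotientGroup.eq_one_iff, ← mul_assoc]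
      exact hc h
    have h2 : Commute (QuotientGroup.mk h : ↥H ⧸ N) (QuotientGroup.mk z ^ m) := Commute.pow_right (h1 1) m
    rw [← QuotientGroup.eq_one_iff, QuotientGroup.mk_mul, QuotientGroup.mk_mul, QuotientGroup.mk_mul, QuotientGroup.mk_inv,
      QuotientGroup.mk_inv, QuotientGroup.mk_pow, h2.eq, mul_inv_cancel_right, mul_inv_cancel]
  · rw [map_pow]
    exact dvd_orderOf_pow hp hzl hm'

end Cfsg.Agent.H632.PQ

private theorem dce_52c0bd6a5096 : _root_.True := by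
  try have : _root_.True := by simp only [_root_.Cfsg.indFun.eq_1]
  exact _root_.True.intro
end

-- part: H137/PQ/RowReeA
section
set_option linter.all false
open scoped Cfsg.Agent.FastGrp

-- part: H137/PQ/Cyc
section
/-!
# S4612: principal blocks with cyclic Sylow subgroups (helper137)

* `card_B0_cyc` : `|B0(p)| = e + (|P| - 1) / e` for a cyclic Sylow `p`-subgroup `P`, `e = |N(P) : C(P)|`;
* `not_same_cyc` : cyclic Sylow `p`- and `l`-subgroups with the same `e`: the principal blocks are different.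
* `not_same_mod` : a prime `s` such that the irreducible characters of degree prime to `s` and `> 1` have `p`-defect zero
  or `l`-defect zero.
-/

set_option autoImplicit false

open Cfsg

namespace Cfsg.Agent.H137.PQ

open Cfsg.Agent.H317.PQ Subgroup

universe u

variable {G : Type u} [Group G] [Finite G]

/-- the number of characters of the principal block, cyclic Sylow subgroups -/
theorem card_B0_cyc {p : ℕ} [hp : Fact p.Prime] (P : Sylow p G) (hcyc : IsCyclic (P : Subgroup G)) (hpG : p ∣ Nat.card G)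
    {e : ℕ} (he : (centralizer ((P : Subgroup G) : Set G)).relIndex (normalizer ((P : Subgroup G) : Set G)) = e) :
    e ∣ p - 1 ∧ Nat.card (B0 p G) = e + (Nat.card (P : Subgroup G) - 1) / e := by
  obtain ⟨M, hM⟩ := Blocks.ExistsModular.exists_isPModular hp.out
  obtain ⟨a, ha⟩ := (IsPGroup.iff_card).1 P.isPGroup'
  have ha1 : 1 ≤ a := by
    by_contra h
    have h0 : a = 0 := by omega
    have h1 : p ∣ Nat.card (P : Subgroup G) := P.dvd_card_of_dvd_card hpG
    rw [ha, h0, pow_zero] at h1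
    exact hp.out.one_lt.ne' (Nat.dvd_one.1 h1)
  obtain ⟨h1, -, -, X, Y, hXY, hd, hX, hY, -⟩ := H734.RB.block hM P hcyc ha1 ha he
  refine ⟨h1, ?_⟩
  have hfin : Finite (IrrCharacter G) := S0909.finite_irr
  rw [B0_eq hp.out hM, hXY, ha, ← hY, ← hX]
  rw [Nat.card_coe_set_eq, Nat.card_coe_set_eq, Nat.card_coe_set_eq, Set.ncard_union_eq hd]

/-- **cyclic Sylow subgroups with the same inertial index** -/
theorem not_same_cyc {p l : ℕ} [hp : Fact p.Prime] [hl : Fact l.Prime] (hpl : p ≠ l) (P : Sylow p G) (L : Sylow l G)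
    (hP : IsCyclic (P : Subgroup G)) (hL : IsCyclic (L : Subgroup G)) (hpG : p ∣ Nat.card G) (hlG : l ∣ Nat.card G)
    {e : ℕ} (he : (centralizer ((P : Subgroup G) : Set G)).relIndex (normalizer ((P : Subgroup G) : Set G)) = e)
    (he' : (centralizer ((L : Subgroup G) : Set G)).relIndex (normalizer ((L : Subgroup G) : Set G)) = e) :
    ¬ Same p l G := by
  intro hS
  obtain ⟨h1, h2⟩ := card_B0_cyc P hP hpG he
  obtain ⟨h3, h4⟩ := card_B0_cyc L hL hlG he'
  have h5 : B0 p G = B0 l G := hS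
  rw [h5, h4] at h2
  have hdvd : ∀ {r : ℕ} [Fact r.Prime] (R : Sylow r G), e ∣ r - 1 → e ∣ Nat.card (R : Subgroup G) - 1 := by
    intro r _ R h
    obtain ⟨a, ha⟩ := (IsPGroup.iff_card).1 R.isPGroup'
    rw [ha]
    exact h.trans (by simpa only [_root_.one_pow] using Nat.sub_dvd_pow_sub_pow r 1 a)
  have h6 := Nat.add_left_cancel h2
  have h7 : Nat.card (L : Subgroup G) - 1 = Nat.card (P : Subgroup G) - 1 := by
    rw [← Nat.div_mul_cancel (hdvd L h3), h6, Nat.div_mul_cancel (hdvd P h1)]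
  have h8 : Nat.card (L : Subgroup G) = Nat.card (P : Subgroup G) := by
    have := Nat.card_pos (α := (L : Subgroup G))
    have := Nat.card_pos (α := (P : Subgroup G))
    omega
  have h9 : p ∣ Nat.card (P : Subgroup G) := P.dvd_card_of_dvd_card hpG
  rw [← h8] at h9
  obtain ⟨a, ha⟩ := (IsPGroup.iff_card).1 L.isPGroup'
  rw [ha] at h9
  exact hpl ((Nat.prime_dvd_prime_iff_eq hp.out hl.out).1 (hp.out.dvd_of_dvd_pow h9))

/-- **degrees prime to `s`** -/
theorem not_same_mod {p l s : ℕ} (hp : p.Prime) (hl : l.Prime) (hs : s.Prime) (hpG : p ∣ Nat.card G)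
    (hlG : l ∣ Nat.card G)
    (h : ∀ χ : IrrCharacter G, ¬ s ∣ charDegree (χ : G → ℂ) → ((χ : G → ℂ) = fun _ => 1) ∨
      (Nat.card G).factorization p ≤ (charDegree (χ : G → ℂ)).factorization p ∨
      (Nat.card G).factorization l ≤ (charDegree (χ : G → ℂ)).factorization l) : ¬ Same p l G := by
  classical
  intro hS
  have : Fact l.Prime := ⟨hl⟩
  have hPQ := H358.A3.PQ.of_same hl hS
  obtain ⟨g, hg⟩ := exists_prime_orderOf_dvd_card' l hlG
  have h1 := H358.A3.PQ.sum_eq_zero hp hl hPQ (g := g) (by rw [hg])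
  have hfin : Finite (IrrCharacter G) := S0909.finite_irr
  have hBf : (B0 p G).Finite := Set.toFinite _
  rw [finsum_mem_eq_finite_toFinset_sum _ hBf] at h1
  have hdeg : ∀ χ : IrrCharacter G, (χ : G → ℂ) 1 = (charDegree (χ : G → ℂ) : ℂ) := fun χ =>
    Blocks.Knorr.charDegree_eq χ.2
  have htriv : (⟨_, Blocks.Basic.isIrrCharacter_one⟩ : IrrCharacter G) ∈ hBf.toFinset := by
    rw [Set.Finite.mem_toFinset]
    intro M hM
    have := Blocks.Local.isPrime_of_isPModular hM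
    exact Blocks.PrincipalSection.one_mem_principalBlock
  rw [← Finset.add_sum_erase _ _ htriv] at h1
  have key : ∀ χ ∈ hBf.toFinset.erase ⟨_, Blocks.Basic.isIrrCharacter_one⟩, ∃ z : AlgInt,
      (χ : G → ℂ) 1 * (χ : G → ℂ) g = (s : ℂ) * (z : ℂ) := by
    intro χ hχ
    rw [Finset.mem_erase, Set.Finite.mem_toFinset] at hχ
    have hχl : χ ∈ B0 l G := by
      have h2 : B0 p G = B0 l G := hS
      rw [← h2]; exact hχ.2
    have hsd : s ∣ charDegree (χ : G → ℂ) := by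
      by_contra hns
      rcases h χ hns with h3 | h3 | h3
      · exact hχ.1 (Subtype.ext h3)
      · exact absurd (H766.PQ.not_defect_zero hp hpG hχ.2) (by omega)
      · exact absurd (H766.PQ.not_defect_zero hl hlG hχl) (by omega)
    obtain ⟨c, hc⟩ := hsd
    refine ⟨c * ⟨(χ : G → ℂ) g, Blocks.Central.isIntegral_irr χ.2 g⟩, ?_⟩
    rw [hdeg, hc]
    push_cast
    ring
  choose! z hz using key
  rw [Finset.sum_congr rfl hz, ← Finset.mul_sum] at h1
  obtain ⟨M, hM⟩ := Blocks.ExistsModular.exists_isPModular hs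
  have h2 : (1 : AlgInt) = (s : AlgInt) * (-∑ χ ∈ hBf.toFinset.erase ⟨_, Blocks.Basic.isIrrCharacter_one⟩, z χ) := by
    apply Subtype.ext
    push_cast
    have h3 : (1 : ℂ) + (s : ℂ) * ∑ χ ∈ hBf.toFinset.erase ⟨_, Blocks.Basic.isIrrCharacter_one⟩, ((z χ : AlgInt) : ℂ) = 0 := by
      rw [← h1]
      simp
    linear_combination h3
  have h3 : (1 : AlgInt) ∈ M := by
    rw [h2]
    exact M.mul_mem_right _ hM.2.2
  exact hM.2.1.ne_top ((Ideal.eq_top_iff_one M).2 h3)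

end Cfsg.Agent.H137.PQ
end

-- part: H137/PQ/RowReeA
section
/-!
# S4612: the row `²G₂(q)`, part A (helper137)

The tests with linear characters of the Borel subgroup.
-/

set_option autoImplicit false
set_option linter.unusedSectionVars false

open Cfsg

namespace Cfsg.Agent.H137.PQ.Ree

open Cfsg.Agent.H317.PQ Subgroup Cfsg.Agent.LieRecognition
open Cfsg.Agent.LieRecognition.ReeAbs Cfsg.Agent.LieRecognition.ReeSylowThree
  Cfsg.Agent.LieRecognition.ReeSplit
open Cfsg.Agent.H88 Cfsg.Agent.H732.RankOneGG Cfsg.Agent.H732.DegRee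
open Cfsg.Agent.LieRecognition.RankOneAbstract (Data)

universe u v

/-! ### the degrees of the two constituents -/

theorem pow_arith {k q c x s t : ℕ} (hk : 3 ≤ k) (hq : q = 3 ^ k) (hc : q = 2 * c + 1) (hco : c % 2 = 1)
    (hx : x = 1 ∨ x = 2 ∨ x = 4) (hs : s = k * (s / k) + t) (ht : t < k) (h : (c : ℤ) ∣ (x : ℤ) * 3 ^ s - 2) :
    x = 2 ∧ t = 0 := by
  have hq27 : 27 ≤ q := by
    rw [hq]
    calc 27 = 3 ^ 3 := by norm_num
      _ ≤ 3 ^ k := Nat.pow_le_pow_right (by norm_num) hk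
  -- reduce `s` modulo `k`
  have h1 : (c : ℤ) ∣ (3 : ℤ) ^ k - 1 := ⟨2, by
    have : ((3 : ℤ) ^ k) = ((3 ^ k : ℕ) : ℤ) := by push_cast; ring
    rw [this, ← hq, hc]; push_cast; ring⟩
  have h2 : (c : ℤ) ∣ (3 : ℤ) ^ (k * (s / k)) - 1 := by
    refine h1.trans ?_
    rw [pow_mul]
    simpa only [_root_.one_pow] using sub_dvd_pow_sub_pow ((3 : ℤ) ^ k) 1 (s / k)
  have h3 : (c : ℤ) ∣ (x : ℤ) * 3 ^ t - 2 := by
    have e : (x : ℤ) * 3 ^ t - 2 = ((x : ℤ) * 3 ^ s - 2) - (x : ℤ) * 3 ^ t * ((3 : ℤ) ^ (k * (s / k)) - 1) := by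
      conv_rhs => rw [hs, pow_add]
      rw [show k * (s / k) + t = s from hs.symm]
      ring
    rw [e]
    exact dvd_sub h (h2.mul_left _)
  have h4 : 3 * 3 ^ t ≤ q := by
    rw [hq, ← pow_succ']
    exact Nat.pow_le_pow_right (by norm_num) ht
  have h5 : t = 0 ∨ 3 ∣ 3 ^ t := by
    rcases Nat.eq_zero_or_pos t with h | h
    · exact Or.inl h
    · exact Or.inr (dvd_pow_self 3 h.ne')
  have h6 : 3 ∣ q := by rw [hq]; exact dvd_pow_self 3 (by omega)
  have h7 : ((3 : ℤ) ^ t) = ((3 ^ t : ℕ) : ℤ) := by push_cast; ring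
  rw [h7] at h3
  have h8 : 1 ≤ 3 ^ t := Nat.one_le_pow _ _ (by norm_num)
  have h9 : t ≠ 0 → 3 ^ t ≠ 1 := by
    intro h h'
    rcases Nat.pow_eq_one.1 h' with h | h
    · norm_num at h
    · contradiction
  have h5' : 3 ^ t = 1 ∨ 3 ∣ 3 ^ t := by
    rcases h5 with h | h
    · left; rw [h, pow_zero]
    · exact Or.inr h
  obtain ⟨z, hz⟩ := h3
  generalize 3 ^ t = y at *
  rcases hx with rfl | rfl | rfl
  · exfalso
    have a1 : (c : ℤ) * z < c * 1 := by rw [← hz]; push_cast; (clear * - hc h4; omega)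
    have a2 : (c : ℤ) * (-1) < c * z := by rw [← hz]; push_cast; (clear * - hc hq27; omega)
    have a3 : z < 1 := lt_of_mul_lt_mul_left a1 (by (clear * -; omega))
    have a4 : -1 < z := lt_of_mul_lt_mul_left a2 (by (clear * -; omega))
    have a5 : z = 0 := by omega
    rw [a5, mul_zero] at hz
    push_cast at hz
    omega
  · refine ⟨rfl, ?_⟩
    by_contra ht0
    have a1 : (c : ℤ) * z < c * 2 := by rw [← hz]; push_cast; (clear * - hc h4; omega)
    have a2 : (c : ℤ) * (-1) < c * z := by rw [← hz]; push_cast; (clear * - hco h8; omega)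
    have a3 : z < 2 := lt_of_mul_lt_mul_left a1 (by (clear * -; omega))
    have a4 : -1 < z := lt_of_mul_lt_mul_left a2 (by (clear * -; omega))
    have a5 : z = 0 ∨ z = 1 := by omega
    have a6 := h9 ht0
    rcases a5 with a5 | a5
    · rw [a5, mul_zero] at hz
      push_cast at hz
      omega
    · rw [a5, mul_one] at hz
      push_cast at hz
      omega
  · exfalso
    have a1 : (c : ℤ) * z < c * 4 := by rw [← hz]; push_cast; (clear * - hc h4; omega)
    have a2 : (c : ℤ) * 0 < c * z := by rw [← hz]; push_cast; omega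
    have a3 : z < 4 := lt_of_mul_lt_mul_left a1 (by (clear * -; omega))
    have a4 : 0 < z := lt_of_mul_lt_mul_left a2 (by (clear * -; omega))
    have a5 : z = 1 ∨ z = 2 ∨ z = 3 := by omega
    rcases a5 with a5 | a5 | a5 <;> rw [a5] at hz <;> push_cast at hz <;> (clear * - hco hz hc hq27 h6 h5'; omega)

theorem deg_arith {k q c d₁ d₂ : ℕ} (hk : 3 ≤ k) (hq : q = 3 ^ k) (hc : q = 2 * c + 1) (hco : c % 2 = 1)
    (h1 : (c : ℤ) ∣ (d₁ : ℤ) - 1) (h2 : (c : ℤ) ∣ (d₂ : ℤ) - 1) (h3 : 3 ∣ d₁ - 1) (h1' : 1 < d₁) (h2' : 1 ≤ d₂)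
    (hs : d₁ + d₂ = q ^ 3 + 1) (hd1 : d₁ ∣ q ^ 3 * (q - 1) * (q ^ 3 + 1)) (hd2 : d₂ ∣ q ^ 3 * (q - 1) * (q ^ 3 + 1)) :
    d₁ * (q + 1) = q ^ 3 + 1 := by
  have hq27 : 27 ≤ q := by
    rw [hq]
    calc 27 = 3 ^ 3 := by norm_num
      _ ≤ 3 ^ k := Nat.pow_le_pow_right (by norm_num) hk
  have hcop : ∀ d : ℕ, (c : ℤ) ∣ (d : ℤ) - 1 → Nat.Coprime d c := by
    intro d hd
    apply Nat.coprime_of_dvd
    intro r hr h4 h5
    have h6 : (r : ℤ) ∣ (d : ℤ) - 1 := (Int.natCast_dvd_natCast.2 h5).trans hd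
    have h7 : (r : ℤ) ∣ (d : ℤ) := Int.natCast_dvd_natCast.2 h4
    have h8 := dvd_sub h7 h6
    rw [sub_sub_cancel] at h8
    have h9 : r ∣ 1 := by exact_mod_cast h8
    exact hr.one_lt.ne' (Nat.dvd_one.1 h9)
  have hqq : q - 1 = c * 2 := by (clear * - hc; omega)
  have c3 : Nat.Coprime d₁ (q ^ 3) := by
    rw [hq, ← pow_mul]
    apply Nat.Coprime.pow_right
    rw [Nat.coprime_comm, Nat.Prime.coprime_iff_not_dvd Nat.prime_three]
    (clear * - h3 h1'; omega)
  have h4 : d₁ ∣ 2 * (q ^ 3 + 1) := by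
    have h5 : q ^ 3 * (q - 1) * (q ^ 3 + 1) = q ^ 3 * (c * (2 * (q ^ 3 + 1))) := by rw [hqq]; ring
    rw [h5] at hd1
    exact (hcop d₁ h1).dvd_of_dvd_mul_left (c3.dvd_of_dvd_mul_left hd1)
  have h5 : d₂ ∣ 2 * q ^ 3 * (q ^ 3 + 1) := by
    have h5 : q ^ 3 * (q - 1) * (q ^ 3 + 1) = c * (2 * q ^ 3 * (q ^ 3 + 1)) := by rw [hqq]; ring
    rw [h5] at hd2
    exact (hcop d₂ h2).dvd_of_dvd_mul_left hd2
  obtain ⟨k₁, hk₁⟩ := h4
  obtain ⟨e₂, he₂⟩ := h5
  have hpos : 0 < q ^ 3 + 1 := by positivity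
  -- `k₁ > 2`
  have hk2 : 2 < k₁ := by
    by_contra hcon
    have h6 : d₁ * k₁ ≤ d₁ * 2 := Nat.mul_le_mul_left _ (by omega)
    omega
  obtain ⟨j, rfl⟩ : ∃ j, k₁ = j + 2 := ⟨k₁ - 2, by omega⟩
  have hj0 : 0 < j := by omega
  -- `(j + 2) d₂ = (q³ + 1) j`
  have h6 : (j + 2) * d₂ = (q ^ 3 + 1) * j := by
    have e1 : (j + 2) * (d₁ + d₂) = (j + 2) * (q ^ 3 + 1) := by rw [hs]
    have e2 : (j + 2) * d₁ = 2 * (q ^ 3 + 1) := by rw [hk₁]; ring
    have e3 : (j + 2) * d₁ + (j + 2) * d₂ = (q ^ 3 + 1) * j + 2 * (q ^ 3 + 1) := by rw [← mul_add, e1]; ring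
    omega
  have h7 : 2 * q ^ 3 * (j + 2) = j * e₂ := by
    apply Nat.eq_of_mul_eq_mul_left hpos
    calc (q ^ 3 + 1) * (2 * q ^ 3 * (j + 2)) = (j + 2) * (2 * q ^ 3 * (q ^ 3 + 1)) := by ring
      _ = (j + 2) * (d₂ * e₂) := by rw [he₂]
      _ = ((j + 2) * d₂) * e₂ := by ring
      _ = (q ^ 3 + 1) * j * e₂ := by rw [h6]
      _ = (q ^ 3 + 1) * (j * e₂) := by ring
  have h8 : j ∣ 4 * q ^ 3 := by
    have e1 : 2 * q ^ 3 * (j + 2) = j * (2 * q ^ 3) + 4 * q ^ 3 := by ring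
    rw [e1] at h7
    exact (Nat.dvd_add_right (dvd_mul_right j _)).1 ⟨e₂, h7⟩
  rw [hq, ← pow_mul] at h8
  obtain ⟨x, y, hx, hy, hxy⟩ := exists_dvd_and_dvd_of_dvd_mul h8
  obtain ⟨s, hs3, rfl⟩ := (Nat.dvd_prime_pow Nat.prime_three).1 hy
  have hx' : x = 1 ∨ x = 2 ∨ x = 4 := by
    have h9 : x ∣ 2 ^ 2 := hx
    obtain ⟨i, hi, rfl⟩ := (Nat.dvd_prime_pow Nat.prime_two).1 h9
    interval_cases i <;> simp
  -- modulo `c`
  have h9 : (c : ℤ) ∣ (x : ℤ) * 3 ^ s - 2 := by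
    have e0 : ((x : ℤ) * 3 ^ s) = (j : ℤ) := by rw [hxy]; push_cast; ring
    rw [e0]
    have e1 : (c : ℤ) ∣ (q : ℤ) ^ 3 - 1 := ⟨2 * ((2 * c + 1) ^ 2 + (2 * c + 1) + 1), by rw [hc]; push_cast; ring⟩
    have e2 : (2 : ℤ) * ((q : ℤ) ^ 3 + 1) = (d₁ : ℤ) * ((j : ℤ) + 2) := by exact_mod_cast hk₁
    have e3 : (j : ℤ) - 2 = 2 * ((q : ℤ) ^ 3 - 1) - ((d₁ : ℤ) - 1) * ((j : ℤ) + 2) := by linear_combination (-1 : ℤ) * e2
    rw [e3]
    exact dvd_sub (e1.mul_left _) (h1.mul_right _)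
  obtain ⟨rfl, h10⟩ := pow_arith hk hq hc hco hx' (Nat.div_add_mod s k).symm (Nat.mod_lt _ (by omega)) h9
  obtain ⟨t, rfl⟩ : ∃ t, s = k * t := Nat.dvd_of_mod_eq_zero h10
  have ht : t ≤ 3 := by
    by_contra hcon
    have : k * 4 ≤ k * t := Nat.mul_le_mul_left _ (by omega)
    omega
  rw [pow_mul, ← hq] at hxy
  have h11 : q ^ 3 + 1 = d₁ * (q ^ t + 1) := by
    rw [hxy] at hk₁
    have e1 : 2 * (q ^ 3 + 1) = 2 * (d₁ * (q ^ t + 1)) := by rw [hk₁]; ring
    exact Nat.eq_of_mul_eq_mul_left (by norm_num) e1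
  have h12 : 3 ∣ q := by rw [hq]; exact dvd_pow_self 3 (by omega)
  have h13 : 3 ∣ q ^ 3 := dvd_pow h12 (by norm_num)
  interval_cases t
  · exfalso
    rw [pow_zero] at h11
    (clear * - h3 h13 h11; omega)
  · rw [pow_one] at h11
    exact h11.symm
  · exfalso
    have h14 : d₁ < q := by
      by_contra hcon
      have h15 : q * (q ^ 2 + 1) ≤ d₁ * (q ^ 2 + 1) := Nat.mul_le_mul_right _ (by (clear * - hcon; omega))
      rw [← h11] at h15
      have h16 : q * (q ^ 2 + 1) = q ^ 3 + q := by ring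
      (clear * - hq27 h15 h16; omega)
    obtain ⟨q', rfl⟩ : ∃ q', q = q' + 1 := ⟨q - 1, by (clear * - hco hqq; omega)⟩
    have h15 : d₁ * ((q' + 1) ^ 2 + 1) ≤ q' * ((q' + 1) ^ 2 + 1) := Nat.mul_le_mul_right _ (by (clear * - h14; omega))
    rw [← h11] at h15
    have h16 : (q' + 1) ^ 3 + 1 = q' * ((q' + 1) ^ 2 + 1) + (q' + 1) ^ 2 - q' + 1 := by
      have : q' ≤ (q' + 1) ^ 2 := by nlinarith only []
      zify [this, show q' ≤ q' * ((q' + 1) ^ 2 + 1) + (q' + 1) ^ 2 by (clear * - this; omega)]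
      ring
    have : q' ≤ (q' + 1) ^ 2 := by nlinarith only []
    (clear * - h15 h16 this; omega)
  · exfalso
    have h14 : 1 * (q ^ 3 + 1) < d₁ * (q ^ 3 + 1) := Nat.mul_lt_mul_of_pos_right h1' hpos
    omega

/-! ### the induced character -/

open Cfsg.Agent.Characters.Core in
theorem indFun_fin {G : Type v} [Group G] [Fintype G] (H : Subgroup G) (θ : ↥H →* ℂˣ) (g : G) :
    indFun H (fun t => ((θ t : ℂˣ) : ℂ)) g =
      (Nat.card H : ℂ)⁻¹ * ∑ᶠ x : {x : G // x⁻¹ * g * x ∈ H}, ((θ ⟨_, x.2⟩ : ℂˣ) : ℂ) := by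
  classical
  rw [indFun]
  congr 1
  rw [finsum_eq_sum_of_fintype, ← Finset.sum_filter_add_sum_filter_not Finset.univ (fun x : G => x⁻¹ * g * x ∈ H)]
  have h0 : ∑ x : G with ¬ x⁻¹ * g * x ∈ H, extendByZero H (fun t => ((θ t : ℂˣ) : ℂ)) (x⁻¹ * g * x) = 0 := by
    refine Finset.sum_eq_zero fun x hx => ?_
    simp only [Finset.mem_filter, Finset.mem_univ, true_and] at hx
    exact Cfsg.Agent.OddOrderCharacters.Clifford.ext_apply_not_mem H _ _ hx
  rw [h0, add_zero]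
  rw [Finset.sum_subtype (Finset.univ.filter fun x : G => x⁻¹ * g * x ∈ H) (p := fun x : G => x⁻¹ * g * x ∈ H)
    (fun x => by simp only [_root_.Finset.mem_filter, _root_.Finset.mem_univ, _root_.true_and]) (fun x => extendByZero H (fun t => ((θ t : ℂˣ) : ℂ)) (x⁻¹ * g * x))]
  refine Finset.sum_congr rfl fun x _ => ?_
  exact Cfsg.Agent.OddOrderCharacters.Clifford.ext_apply_mem H _ _ x.2

section ree

variable {K : Type u} [Field K] [Fintype K] {G : Type v} [Group G] {m : ℕ} {U : K → K → K → G} {h : Kˣ → G} {n : G}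

/-- the values of a homomorphism on the torus -/
theorem hom_val (D : ReeAbs.Data m U h n) {f : bSub D →* ℂˣ} (hf : ∀ u : bSub D, (u : G) ∈ uSub D → f u = 1)
    (x : bSub D) : ∃ a, f x = f (hh D a) := by
  obtain ⟨_, t, u, v, a, rfl⟩ := x
  have h1 : (⟨U t u v * h a, ⟨t, u, v, a, rfl⟩⟩ : bSub D) = ⟨U t u v, uSub_le_bSub D ⟨t, u, v, rfl⟩⟩ * hh D a := rfl
  exact ⟨a, by rw [h1, map_mul, hf _ ⟨t, u, v, rfl⟩, one_mul]⟩

/-- `z` of order a power of `p ≠ l`, `3 ≠ l` : translation by `z` -/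
theorem trans_iff [Finite G] (D : ReeAbs.Data m U h n) (hK : Fintype.card K = 3 ^ (2 * m + 1)) {p l : ℕ} (hp : p.Prime)
    (hl : l.Prime) (hpl : p ≠ l) (hl3 : l ≠ 3) (z : bSub D) (hz : ∃ k : ℕ, z ^ p ^ k = 1) (x : bSub D) :
    l ∣ orderOf (x * z) ↔ l ∣ orderOf x := by
  have : Fact (Nat.Prime 3) := ⟨Nat.prime_three⟩
  have R := RkRee.rank_one D
  have hN : ((uSub D).subgroupOf (bSub D)).Normal := by
    constructor
    intro n hn g
    rw [Subgroup.mem_subgroupOf] at hn ⊢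
    exact R.norm g g.2 n hn
  have hP : IsPGroup 3 ((uSub D).subgroupOf (bSub D)) := by
    intro u
    obtain ⟨k, hk⟩ := isPGroup D hK ⟨(u : bSub D), Subgroup.mem_subgroupOf.1 u.2⟩
    refine ⟨k, Subtype.ext (Subtype.ext ?_)⟩
    have := congrArg Subtype.val hk
    simpa only [_root_.SubmonoidClass.coe_pow, _root_.OneMemClass.coe_one, _root_.SubmonoidClass.mk_pow] using this
  refine H632.PQ.dvd_orderOf_mul_iff hp hl hpl (Ne.symm hl3) _ hP z hz (fun y => ?_) x
  obtain ⟨u, hu, he⟩ := hab D y y.2 z z.2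
  rw [Subgroup.mem_subgroupOf]
  have e1 : ((y * z * y⁻¹ * z⁻¹ : bSub D) : G) = (z * y : bSub D) * u * (z * y : bSub D)⁻¹ := by
    push_cast
    rw [he]
    group
  rw [e1]
  exact R.norm _ (z * y : bSub D).2 u hu

/-- **primes dividing `q - 1`** -/
theorem kill_lin [Finite G] (D : ReeAbs.Data m U h n) (hK : Fintype.card K = 3 ^ (2 * m + 1)) {p l : ℕ} (hp : p.Prime)
    (hl : l.Prime) (hp2 : p ≠ 2) (hpl : p ≠ l) (hl3 : l ≠ 3) (hd : p ∣ 3 ^ (2 * m + 1) - 1) : ¬ Same p l G := by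
  classical
  have := Fintype.ofFinite G
  have : Fact p.Prime := ⟨hp⟩
  have R := RkRee.rank_one D
  obtain ⟨a, ha⟩ := exists_prime_orderOf_dvd_card' (G := Kˣ) p (by
    rw [Nat.card_units, Nat.card_eq_fintype_card, hK]; exact hd)
  have ha1 : a ≠ 1 := by
    rintro rfl
    rw [orderOf_one] at ha
    exact hp.one_lt.ne ha
  obtain ⟨f, hfU, hf⟩ := exists_hom_ne R (hab D) (x := hh D a) (h_not_mem D ha1)
  have hap : a ^ p = 1 := by rw [← ha]; exact pow_orderOf_eq_one a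
  have hfp : f (hh D a) ^ p = 1 := by rw [← map_pow, ← map_pow, hap, map_one, map_one]
  have hfo : orderOf (f (hh D a)) = p := orderOf_eq_prime hfp hf
  have hq0 : 3 ^ (2 * m + 1) - 1 ≠ 0 := by
    have : 3 ^ 1 ≤ 3 ^ (2 * m + 1) := Nat.pow_le_pow_right (by norm_num) (by omega)
    omega
  obtain ⟨k, s, hs, hks⟩ := Nat.exists_eq_pow_mul_and_not_dvd hq0 p hp.ne_one
  have hθo : orderOf ((f ^ s) (hh D a)) = p := by
    rw [MonoidHom.pow_apply]
    have h1 : Nat.Coprime (orderOf (f (hh D a))) s := by rw [hfo]; exact (Nat.Prime.coprime_iff_not_dvd hp).2 hs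
    rw [Nat.Coprime.orderOf_pow h1, hfo]
  have hne2 : (f ^ s) (hh D a) * (f ^ s) (hh D a) ≠ 1 := by
    intro h1
    have h2 : orderOf ((f ^ s) (hh D a)) ∣ 2 := orderOf_dvd_of_pow_eq_one (by rw [pow_two, h1])
    rw [hθo] at h2
    exact hp2 ((Nat.prime_dvd_prime_iff_eq hp Nat.prime_two).1 h2)
  have hdw : n * h a * n⁻¹ ∈ bSub D := by rw [n_conj D]; exact h_mem_bSub D _
  have hirr := ind_irr R (f ^ s) (h_mem_bSub D a) hdw (by
    intro h1
    apply hne2
    have h3 : (⟨n * h a * n⁻¹, hdw⟩ : bSub D) = (hh D a)⁻¹ := by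
      rw [← map_inv]
      exact Subtype.ext (n_conj D a)
    have h4 : (⟨h a, h_mem_bSub D a⟩ : bSub D) = hh D a := rfl
    rw [h3, h4, map_inv, inv_eq_iff_mul_eq_one] at h1
    exact h1)
  refine H809.PQ.linear_test hp hl (bSub D) (f ^ s) (fun x => ⟨k, ?_⟩) ⟨_, hirr⟩ (fun g => indFun_fin _ _ g) (hh D a) ?_
    (trans_iff D hK hp hl hpl hl3 (hh D a) ⟨1, by rw [pow_one, ← map_pow, hap, map_one]⟩)
  · obtain ⟨b, hb⟩ := hom_val D (f := f ^ s) (fun u hu => by rw [MonoidHom.pow_apply, hfU u hu, one_pow]) x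
    rw [hb, MonoidHom.pow_apply, ← pow_mul, mul_comm, ← hks, ← map_pow, ← map_pow, pow_card hK, map_one, map_one]
  · intro h1
    rw [h1, orderOf_one] at hθo
    exact hp.one_lt.ne hθo

end ree

end Cfsg.Agent.H137.PQ.Ree
end
end
end
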